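import Cfsg.Agent.Lib.HNMult.Derived
import Cfsg.Agent.Lib.SporPerm.HSFrameCert

/-!
An element of order 11 in the group of `x, y, z`: its centraliser, and an element outside the commutator subgroup
inverting it.
-/

set_option autoImplicit false
set_option maxRecDepth 100000
set_option linter.style.haveILetI false
set_option maxHeartbeats 1000000
set_option Elab.async false

namespace Cfsg.Agent.HNOut

open Cfsg.Agent.HN Cfsg.Agent.HNMult
open Cfsg.Agent.PermCert Cfsg.Agent.PermAut Cfsg.Agent.SporPerm Cfsg.Agent.CentAut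

noncomputable section

/-- The element of order 11 of the model. -/
def X11 : Equiv.Perm (Fin 100) := toPerm 7 100 hsFrData.x

/-- The code of the image of `z`. -/
def zE : Elt := (pack 7 (fun i => ap hund4 i) 100, pack 7 (fun i => ap hund4 i) 100)

/-- The code of the inverting permutation times the image of `z`. -/
def eE : Elt := (comp 7 100 hsFrData.sigma.1 zE.1, comp 7 100 zE.1 hsFrData.sigma.2)

theorem codes_ok : isWord [4] zE = true ∧ validElt 7 100 eE = true ∧ sift 7 100 hsLevels eE.1 = true ∧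
    validElt 7 100 hsFrData.sigma = true ∧ same 7 100 [eE.1, zE.1] [hsFrData.sigma.1] = true ∧
    same 7 100 [hsFrData.sigma.1, hsFrData.x.1] (List.replicate 10 hsFrData.x.1 ++ [hsFrData.sigma.1]) = true := by
  decide +kernel

theorem cent_no_invert : (hsFrData.cent.all fun c =>
    !same 7 100 [c.1, hsFrData.x.1] (List.replicate 10 hsFrData.x.1 ++ [c.1])) = true := by
  decide +kernel

/-- The facts on the model. -/
theorem frame_facts : grp 7 100 hsFrData = genGroup 7 100 hsGens ∧ X11 ^ 11 = 1 ∧ X11 ≠ 1 ∧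
    X11 ∈ genGroup 7 100 hsGens ∧
    (∀ g ∈ genGroup 7 100 hsGens, g * X11 = X11 * g → ∃ b : ℕ, g = X11 ^ b) ∧
    (∀ g ∈ genGroup 7 100 hsGens, g * X11 * g⁻¹ ≠ X11 ^ 10) := by
  obtain ⟨hc, heq⟩ := cert_of_model hs_cert hsFr_light hsFr_sift hsFr_order
  have hf := hsFr_frame
  simp only [frameOK, Bool.and_eq_true, List.all_eq_true, Bool.not_eq_true', Nat.beq_eq, Nat.blt_eq] at hf
  obtain ⟨⟨⟨⟨⟨⟨⟨⟨⟨⟨⟨⟨⟨⟨⟨⟨hxv, -⟩, hnv⟩, hns⟩, hcv⟩, hlb⟩, hlen⟩, hpw⟩, hxp⟩, hx1⟩, hnx⟩, -⟩, -⟩, -⟩, -⟩, -⟩, -⟩ := hf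
  rw [show hsFrData.p = 11 from rfl] at hlen hpw hxp
  rw [show hsFrData.r = 3 from rfl] at hnx
  have fx : Fwd 7 (hsFrData.x.1, X11) := fwd_rep (rep_toPerm hxv)
  set N : Equiv.Perm (Fin 100) := toPerm 7 100 hsFrData.nn with hNdef
  have fn : Fwd 7 (hsFrData.nn.1, N) := fwd_rep (rep_toPerm hnv)
  have hXp : X11 ^ 11 = 1 := by
    have := (same_iff (w := 7) (A := List.replicate 11 (hsFrData.x.1, X11)) (B := [])
      (fun e he => List.eq_of_mem_replicate he ▸ fx) (by simp)).1 (by rw [List.map_replicate]; exact hxp)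
    rwa [List.map_replicate, List.prod_replicate, List.map_nil, List.prod_nil] at this
  have hX1 : X11 ≠ 1 := fun e => by
    have := (same_iff (w := 7) (A := [(hsFrData.x.1, X11)]) (B := []) (by simpa using fx) (by simp)).2
      (by simp [e])
    simp [hx1] at this
  have hXmem : X11 ∈ genGroup 7 100 hsGens := heq ▸ (gx 7 100 hsFrData).2
  have hNmem : N ∈ genGroup 7 100 hsGens := heq ▸ cert_mem hc hnv hns
  have hN : N * X11 * N⁻¹ = X11 ^ 3 := by
    have := (same_iff (w := 7) (A := [(hsFrData.nn.1, N), (hsFrData.x.1, X11)])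
      (B := List.replicate 3 (hsFrData.x.1, X11) ++ [(hsFrData.nn.1, N)])
      (by simp [fn, fx]) (fun e he => by
        simp only [List.mem_append, List.mem_replicate, List.mem_singleton] at he
        rcases he with ⟨-, rfl⟩ | rfl
        exacts [fx, fn])).1 (by rw [List.map_append, List.map_replicate]; exact hnx)
    simp only [List.map_append, List.map_replicate, List.map_cons, List.map_nil, List.prod_append,
      List.prod_replicate, List.prod_cons, List.prod_nil, mul_one] at this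
    exact mul_inv_eq_iff_eq_mul.2 this
  have hpow : ∀ i < 11, Fwd 7 ((hsFrData.xPows.getD i (0, 0)).1, X11 ^ i) := fun i hi j => by
    have h4 := allBelow_spec _ _ (allBelow_spec _ _ hpw i hi) j j.2
    rw [Nat.beq_eq] at h4
    have h5 := app_prod (List.replicate i (hsFrData.x.1, X11)) (fun e he => List.eq_of_mem_replicate he ▸ fx) j
    simp only [List.map_replicate, List.prod_replicate] at h5
    rw [h5] at h4
    rw [← h4]; rfl
  have hcent : ∀ g ∈ genGroup 7 100 hsGens, g * X11 = X11 * g → ∃ b : ℕ, g = X11 ^ b := by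
    intro g hg hgx
    obtain ⟨e0, he0, hf0⟩ := centAll_mem hc hlb fx (fun q hq => by
      obtain ⟨q', hq', rfl⟩ := List.mem_map.1 (List.mem_of_mem_tail hq)
      obtain ⟨i, hi, rfl⟩ := List.mem_iff_getElem.1 hq'
      have := hpow i (hlen ▸ hi)
      rw [List.getD_eq_getElem _ _ hi] at this
      exact ⟨_, this, fun g hg => (Commute.pow_right hg i)⟩) hsFr_centX (le_of_eq heq.symm hg) hgx
    obtain ⟨q, hq, rfl⟩ := List.mem_map.1 he0
    obtain ⟨b, hb, rfl⟩ := List.mem_iff_getElem.1 hq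
    have := hpow b (hlen ▸ hb)
    rw [List.getD_eq_getElem _ _ hb] at this
    exact ⟨b, Equiv.ext fun i => Fin.ext ((hf0 i).symm.trans (this i))⟩
  refine ⟨heq, hXp, hX1, hXmem, hcent, fun g hg hgx => ?_⟩
  have hpX : ∀ {a b : ℕ}, a % 11 = b % 11 → X11 ^ a = X11 ^ b := fun {a b} h => by
    rw [pow_eq_pow_mod a hXp, pow_eq_pow_mod b hXp, h]
  have c1 : ∀ i : ℕ, g * X11 ^ i * g⁻¹ = X11 ^ (10 * i) := fun i => by
    rw [← conj_pow, hgx, ← pow_mul]
  have n1 : ∀ i : ℕ, N * X11 ^ i * N⁻¹ = X11 ^ (3 * i) := fun i => by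
    rw [← conj_pow, hN, ← pow_mul]
  -- the commutator with N is a power
  have hcm : g⁻¹ * N⁻¹ * g * N * X11 = X11 * (g⁻¹ * N⁻¹ * g * N) := by
    have e1 : g⁻¹ * N⁻¹ * g * N * X11 * (g⁻¹ * N⁻¹ * g * N)⁻¹ =
        g⁻¹ * (N⁻¹ * (g * (N * X11 * N⁻¹) * g⁻¹) * N) * g := by group
    have e2 : N⁻¹ * X11 ^ (10 * 3) * N = X11 ^ 10 := by
      rw [mul_comm 10 3, ← n1 10]; group
    have e3 : g⁻¹ * X11 ^ 10 * g = X11 := by rw [← hgx]; group
    rw [hN, c1 3, e2, e3] at e1
    exact mul_inv_eq_iff_eq_mul.1 e1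
  obtain ⟨b, hb⟩ := hcent _ (mul_mem (mul_mem (mul_mem (inv_mem hg) (inv_mem hNmem)) hg) hNmem) hcm
  -- adjust g to commute with N
  set g' := g * X11 ^ (7 * b) with hg'
  have hNg : N * g' = g' * N := by
    have e1 : N⁻¹ * g * N = g * X11 ^ b := by rw [← hb]; group
    have e2 : N⁻¹ * g' * N = g * X11 ^ b * (N⁻¹ * X11 ^ (7 * b) * N) := by rw [← e1, hg']; group
    have e3 : N⁻¹ * X11 ^ (7 * b) * N = X11 ^ (28 * b) := by
      rw [hpX (show (7 * b) % 11 = (3 * (28 * b)) % 11 by omega), ← n1]; group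
    have e4 : N⁻¹ * g' * N = g' := by
      rw [e2, e3, hg', mul_assoc, ← pow_add, hpX (show (b + 28 * b) % 11 = (7 * b) % 11 by omega)]
    conv_lhs => rw [← e4]
    group
  obtain ⟨e, he, hfe⟩ := centAll_mem hc hlb fn (by simpa using ⟨_, fn, fun g hg => hg⟩) hsFr_centN
    (le_of_eq heq.symm (mul_mem hg (pow_mem hXmem (7 * b)))) hNg.symm
  obtain ⟨c, hcm', rfl⟩ := List.mem_map.1 he
  refine absurd ?_ (Bool.eq_false_iff.1 (Bool.not_eq_true' _ ▸ List.all_eq_true.1 cent_no_invert c hcm'))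
  have hg'x : g' * X11 = X11 ^ 10 * g' := by
    rw [hg', mul_assoc, ← pow_succ, pow_succ', ← mul_assoc, ← mul_assoc,
      mul_inv_eq_iff_eq_mul.1 hgx]
  have := (same_iff (w := 7) (A := [(c.1, g'), (hsFrData.x.1, X11)])
    (B := List.replicate 10 (hsFrData.x.1, X11) ++ [(c.1, g')])
    (List.forall_mem_cons.2 ⟨hfe, List.forall_mem_singleton.2 fx⟩) (fun e he => by
      simp only [List.mem_append, List.mem_replicate, List.mem_singleton] at he
      rcases he with ⟨-, rfl⟩ | rfl
      exacts [fx, hfe])).2 (by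
        simp only [List.map_append, List.map_replicate, List.map_cons, List.map_nil, List.prod_append,
          List.prod_replicate, List.prod_cons, List.prod_nil, mul_one]
        exact hg'x)
  simp only [List.map_append, List.map_replicate, List.map_cons, List.map_nil] at this
  exact this

/-- An element over the inverting permutation lies outside the commutator subgroup. -/
theorem exists_inverter : ∃ w : H0, w ∉ commutator H0 ∧ rep100 w * X11 * (rep100 w)⁻¹ = X11 ^ 10 := by
  obtain ⟨hz', hev, hes, hsv, hprod, hsx⟩ := codes_ok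
  obtain ⟨-, hXp, hX1, hXmem, -, hno⟩ := frame_facts
  have hxv : validElt 7 100 hsFrData.x = true := by
    have := hsFr_frame
    simp only [frameOK, Bool.and_eq_true] at this
    exact this.1.1.1.1.1.1.1.1.1.1.1.1.1.1.1.1
  have fx : Fwd 7 (hsFrData.x.1, X11) := fwd_rep (rep_toPerm hxv)
  have fs : Fwd 7 (hsFrData.sigma.1, toPerm 7 100 hsFrData.sigma) := fwd_rep (rep_toPerm hsv)
  have hzv : validElt 7 100 zE = true := by
    simp only [isWord, Bool.and_eq_true] at hz'
    exact hz'.1.2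
  have hzr : rep100 hz = toPerm 7 100 zE := by
    rw [← rep100_toPerm hz', wv_singleton]; rfl
  have hprod' : toPerm 7 100 eE * toPerm 7 100 zE = toPerm 7 100 hsFrData.sigma := by
    simpa using (same_iff (w := 7) (A := [(eE.1, toPerm 7 100 eE), (zE.1, toPerm 7 100 zE)])
      (B := [(hsFrData.sigma.1, toPerm 7 100 hsFrData.sigma)])
      (by simp [fwd_rep (rep_toPerm hev), fwd_rep (rep_toPerm hzv)]) (by simp [fs])).1 (by simpa using hprod)
  have hSX : toPerm 7 100 hsFrData.sigma * X11 = X11 ^ 10 * toPerm 7 100 hsFrData.sigma := by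
    have := (same_iff (w := 7) (A := [(hsFrData.sigma.1, toPerm 7 100 hsFrData.sigma), (hsFrData.x.1, X11)])
      (B := List.replicate 10 (hsFrData.x.1, X11) ++ [(hsFrData.sigma.1, toPerm 7 100 hsFrData.sigma)])
      (by simp [fs, fx]) (fun e he => by
        simp only [List.mem_append, List.mem_replicate, List.mem_singleton] at he
        rcases he with ⟨-, rfl⟩ | rfl
        exacts [fx, fs])).1 (by rw [List.map_append, List.map_replicate]; exact hsx)
    simpa only [List.map_append, List.map_replicate, List.map_cons, List.map_nil, List.prod_append,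
      List.prod_replicate, List.prod_cons, List.prod_nil, mul_one] using this
  obtain ⟨k, hk⟩ := toHS_facts.1 ⟨_, cert_mem hs_cert hev hes⟩
  have hk' : rep100 (k : H0) = toPerm 7 100 eE := congrArg Subtype.val hk
  refine ⟨k * hz, fun h => ?_, ?_⟩
  · exact z_not_hs (index_derived.2 ((Subgroup.mul_mem_cancel_left _ k.2).1 h))
  · rw [map_mul, hk', hzr, hprod', hSX, mul_inv_cancel_right]

/-- An element whose image commutes with the element of order 11 lies in the commutator subgroup, over a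
power. -/
theorem cent_eleven {u : H0} (hu : Commute (rep100 u) X11) :
    u ∈ commutator H0 ∧ ∃ b : ℕ, rep100 u = X11 ^ b := by
  obtain ⟨-, -, -, -, hcent, hno⟩ := frame_facts
  obtain ⟨w, hw, hwx⟩ := exists_inverter
  have hu' : u ∈ commutator H0 := by
    by_contra h
    have hwu : w * u ∈ commutator H0 := by
      rw [Subgroup.mul_mem_iff_of_index_two index_derived.1]
      exact iff_of_false hw h
    refine hno _ (index_derived.2 hwu) ?_
    rw [map_mul, mul_inv_rev]
    calc rep100 w * rep100 u * X11 * ((rep100 u)⁻¹ * (rep100 w)⁻¹)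
        = rep100 w * (rep100 u * X11) * (rep100 u)⁻¹ * (rep100 w)⁻¹ := by group
      _ = rep100 w * (X11 * rep100 u) * (rep100 u)⁻¹ * (rep100 w)⁻¹ := by rw [hu.eq]
      _ = X11 ^ 10 := by rw [← hwx]; group
  exact ⟨hu', hcent _ (index_derived.2 hu') hu.eq⟩

/-- An element mapping to the identity of the 100 points is trivial or the square of `x`. -/
theorem ker_cases {u : H0} (hK : u ∈ commutator H0) (h : rep100 u = 1) : u = 1 ∨ u = hx ^ 2 := by
  obtain ⟨-, hker, -, -⟩ := toHS_facts
  obtain ⟨p, q, hpq, huniv⟩ := Nat.card_eq_two_iff.1 hker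
  have m : ∀ b : toHS.ker, (b : ↥(commutator H0)) = (p : ↥(commutator H0)) ∨ (b : ↥(commutator H0)) = q := fun b => by
    have : b ∈ ({p, q} : Set toHS.ker) := huniv ▸ Set.mem_univ b
    rcases this with h | h <;> simp_all
  have hxx : hx ^ 2 ∈ commutator H0 := Subgroup.pow_mem _ gens_in_derived.1 2
  rcases m ⟨⟨u, hK⟩, Subtype.ext h⟩ with h1 | h1 <;> rcases m 1 with h2 | h2 <;>
    rcases m ⟨⟨hx ^ 2, hxx⟩, Subtype.ext x_sq_trivial⟩ with h3 | h3
  all_goals first
    | exact Or.inl (congrArg Subtype.val (h1.trans h2.symm))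
    | exact Or.inr (congrArg Subtype.val (h1.trans h3.symm))
    | exact absurd (congrArg Subtype.val (h3.trans h2.symm)) hx_sq_ne

/-- The element of order 11 and its centralising involution. -/
theorem exists_eleven : ∃ q : H0, q ∈ commutator H0 ∧ rep100 q = X11 ∧ orderOf q = 11 ∧
    ∀ u, Commute u q → u ^ 2 = 1 → u ≠ 1 → u = hx ^ 2 := by
  obtain ⟨-, hXp, hX1, hXmem, -, -⟩ := frame_facts
  obtain ⟨k, hk⟩ := toHS_facts.1 ⟨X11, hXmem⟩
  have hk' : rep100 (k : H0) = X11 := congrArg Subtype.val hk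
  have h11 : ((k : H0) ^ 11) ^ 2 = 1 := by
    rcases ker_cases (pow_mem k.2 11) (by rw [map_pow, hk', hXp]) with h | h <;> rw [h]
    · exact one_pow _
    · rw [← pow_mul]; exact hx_pow_four
  have hq : rep100 ((k : H0) ^ 12) = X11 := by
    rw [map_pow, hk', pow_succ, hXp, one_mul]
  refine ⟨(k : H0) ^ 12, pow_mem k.2 12, hq, ?_, fun u hu hu2 hu1 => ?_⟩
  · haveI : Fact (Nat.Prime 11) := ⟨by norm_num⟩
    refine orderOf_eq_prime ?_ fun e => hX1 (by rw [← hq, e, map_one])
    rw [← pow_mul, show 12 * 11 = (11 * 2) * 6 by norm_num, pow_mul, pow_mul, h11, one_pow]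
  · have hc : Commute (rep100 u) X11 := by rw [← hq]; exact hu.map rep100
    obtain ⟨hK, b, hb⟩ := cent_eleven hc
    refine (ker_cases hK ?_).resolve_left hu1
    have h2 : X11 ^ (2 * b) = 1 := by rw [mul_comm, pow_mul, ← hb, ← map_pow, hu2, map_one]
    haveI : Fact (Nat.Prime 11) := ⟨by norm_num⟩
    have hord : orderOf X11 = 11 := orderOf_eq_prime hXp hX1
    have hd : 11 ∣ 2 * b := hord ▸ orderOf_dvd_of_pow_eq_one h2
    have hd' : 11 ∣ b := (Nat.Coprime.dvd_of_dvd_mul_left (by norm_num) hd)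
    rw [hb]
    obtain ⟨c, rfl⟩ := hd'
    rw [pow_mul, hXp, one_pow]

end

end Cfsg.Agent.HNOut
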