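import Cfsg.Agent.Lib.HN.Checks
import Cfsg.Agent.Lib.HNOut.Eleven

/-!
The normaliser and the centraliser of the stabiliser of a point in the group of `x, y, z`.
-/

set_option autoImplicit false
set_option maxRecDepth 100000
set_option linter.style.haveILetI false
set_option Elab.async false

namespace Cfsg.Agent.HNOut

open Cfsg.Agent.HN Cfsg.Agent.HNMult
open Cfsg.Agent.PermCert Cfsg.Agent.SporPerm

noncomputable section

/-- The blocks `y`, `x⁻¹ y x` and their inverses. -/
def blkS : List (List ℕ) := [[2], [1, 2, 0], [3], [1, 3, 0]]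

/-- A word in the blocks. -/
def flatS (bs : List ℕ) : List ℕ := bs.flatMap fun b => blkS.getD b []

/-- A list of all the points of 100, each after the first two reached from an earlier one. -/
def orderS : List ℕ := [0, 1, 44, 48, 43, 36, 76, 66, 30, 9, 5, 46, 33, 99, 91, 51, 38, 85, 25, 39, 49, 8, 92, 31, 27, 69, 37, 13, 29, 71, 62, 16, 81, 12, 83, 90, 79, 47, 63, 86, 53, 84, 17, 52, 94, 74, 45, 18, 96, 7, 60, 34, 28, 77, 4, 73, 82, 72, 61, 40, 54, 95, 88, 10, 58, 23, 50, 59, 65, 20, 42, 6, 97, 67, 22, 64, 15, 70, 26, 41, 93, 21, 19, 98, 87, 80, 55, 11, 32, 75, 35, 2, 3, 89, 78, 14, 24, 57, 56, 68]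

/-- Where each of them comes from. -/
def stepsS : List (ℕ × ℕ) := [(0, 0), (0, 1), (1, 0), (1, 1), (2, 1), (3, 0), (3, 1), (4, 0), (4, 1), (5, 0), (5, 1), (6, 0), (6, 1), (7, 1), (9, 0), (9, 1), (10, 0), (11, 0), (11, 1), (12, 0), (13, 0), (14, 0), (14, 1), (15, 0), (15, 1), (16, 0), (16, 1), (17, 0), (17, 1), (18, 0), (18, 1), (19, 1), (20, 1), (21, 0), (22, 0), (22, 1), (23, 0), (23, 1), (24, 0), (25, 0), (26, 0), (27, 0), (27, 1), (29, 0), (30, 0), (30, 1), (31, 0), (31, 1), (32, 0), (33, 0), (34, 0), (34, 1), (35, 0), (35, 1), (36, 1), (37, 0), (37, 1), (38, 0), (38, 1), (40, 0), (41, 1), (42, 0), (42, 1), (44, 0), (45, 0), (45, 1), (46, 0), (47, 0), (47, 1), (48, 0), (49, 1), (52, 0), (53, 0), (55, 1), (56, 1), (57, 0), (58, 0), (59, 0), (59, 1), (60, 1), (62, 0), (63, 0), (63, 1), (64, 1), (66, 0), (68, 1), (71, 0), (77, 0), (82, 0), (83, 0), (83, 1), (84, 0), (85, 0), (85, 1), (86, 1), (90, 1), (95, 0), (98, 0)]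

/-- Two pairs of words, fixing one point each. -/
def fixWords : List (ℕ × List ℕ × List ℕ) := [(0, [0, 3, 0, 0, 1], [2, 2]), (1, [2, 1, 0], [3, 0, 1, 2])]

theorem hundred_checks : (letOK 5 (flatS [0]) && letOK 5 (flatS [1])) = true ∧
    (fixWords.all fun e => letOK 5 (flatS e.2.1) && letOK 5 (flatS e.2.2) &&
      Nat.beq (hund.actW (flatS e.2.1) e.1) e.1 && Nat.beq (hund.actW (flatS e.2.2) e.1) e.1 &&
      allLo (fun q => Nat.beq q e.1 || !(Nat.beq (hund.actW (flatS e.2.1) q) q) ||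
        !(Nat.beq (hund.actW (flatS e.2.2) q) q)) 100) = true ∧
    allLo (fun k => Nat.blt (stepsS.getD k (0, 0)).1 (k + 2) && Nat.blt (stepsS.getD k (0, 0)).2 2 &&
      Nat.beq (hund.actW (flatS [(stepsS.getD k (0, 0)).2]) (orderS.getD (stepsS.getD k (0, 0)).1 0))
        (orderS.getD (k + 2) 0)) 98 = true ∧
    allLo (fun q => orderS.any fun p => Nat.beq p q) 100 = true := by
  decide +kernel

theorem fixed_points : allLo (fun q => !(Nat.beq (lact [2] q) q && Nat.beq (lact [1, 2, 0] q) q) ||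
      Nat.beq q (lact [] 0) || Nat.beq q (lact [0] 0) || Nat.beq q (lact [0, 0] 0) || Nat.beq q (lact [0, 0, 0] 0))
    1408 = true := by decide +kernel

variable {X : XData} (hX : XOK X)
include hX

theorem blocks_mem : el [2] ∈ stab0 ∧ el [1, 2, 0] ∈ stab0 := by
  obtain ⟨hg, h3, h90⟩ := kgens hX
  have hgr : ∀ g ∈ topGens X.kchain, el (unp g) ∈ stab0 := fun g hg' => by
    rw [stab0_eq hX]
    exact Subgroup.subset_closure ⟨g, hg', rfl⟩
  exact ⟨h3 ▸ hgr 3 (by rw [hg]; simp), h90 ▸ hgr 90 (by rw [hg]; simp)⟩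

/-- An element conjugating the stabiliser of `0` into itself moves `0` like a power of `x`. -/
theorem norm_stab0 {h : H0} (hn : ∀ a ∈ stab0, h * a * h⁻¹ ∈ stab0) : ∃ i < 4, h * hx ^ i ∈ stab0 := by
  obtain ⟨m2, m120⟩ := blocks_mem hX
  have hfix : ∀ w : List ℕ, letOK 5 w = true → el w ∈ stab0 → lact w (pi h⁻¹).1 = (pi h⁻¹).1 := by
    intro w hw hm
    rw [← rep_el_apply hw, ← pi_mul]
    refine congrArg Fin.val (pi_eq_iff.2 ?_)
    rw [mul_inv_rev, inv_inv, ← inv_mem_iff]
    simp only [mul_inv_rev, inv_inv]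
    rw [← mul_assoc]
    exact hn _ hm
  have hq := allLo_spec fixed_points (pi_lt h⁻¹)
  simp only [hfix [2] (by decide +kernel) m2, hfix [1, 2, 0] (by decide +kernel) m120, Bool.or_eq_true,
    Bool.not_eq_true', Bool.and_eq_false_iff, Nat.beq_eq] at hq
  have fin : ∀ w : List ℕ, letOK 5 w = true → ∀ i, el w = hx ^ i → (pi h⁻¹).1 = lact w 0 → h * hx ^ i ∈ stab0 := by
    intro w hw i he heq
    rw [← pi_el hw, he] at heq
    have := pi_eq_iff.1 (Fin.ext heq)
    rwa [inv_inv] at this
  rcases hq with ((((hf | hf) | h0) | h1) | h2) | h3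
  · exact absurd hf (by simp)
  · exact absurd hf (by simp)
  · exact ⟨0, by norm_num, fin [] (by decide +kernel) 0 (by simp [el, wv]) h0⟩
  · exact ⟨1, by norm_num, fin [0] (by decide +kernel) 1 (by simp [el, wv, g5]) h1⟩
  · exact ⟨2, by norm_num, fin [0, 0] (by decide +kernel) 2 (by simp [el, wv, g5, sq]) h2⟩
  · exact ⟨3, by norm_num, fin [0, 0, 0] (by decide +kernel) 3 (by simp [el, wv, g5, pow_succ, mul_assoc]) h3⟩

/-- What commutes with the stabiliser of `0` is trivial or the square of `x`. -/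
theorem cent_stab0 {u : H0} (hu : ∀ a ∈ stab0, Commute u a) : u = 1 ∨ u = hx ^ 2 := by
  obtain ⟨m2, m120⟩ := blocks_mem hX
  obtain ⟨hl, hw, hsteps, hall⟩ := hundred_checks
  rw [Bool.and_eq_true] at hl
  have hblk : ∀ b, el (blkS.getD b []) ∈ stab0 := fun b => by
    match b with
    | 0 => exact m2
    | 1 => exact m120
    | 2 => rw [show el (blkS.getD 2 []) = (el [2])⁻¹ by simp [blkS, el, wv, g5]]; exact inv_mem m2
    | 3 =>
      rw [show el (blkS.getD 3 []) = (el [1, 2, 0])⁻¹ by simp [blkS, el, wv, g5, mul_assoc]]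
      exact inv_mem m120
    | _ + 4 => simp only [blkS, List.getD_cons_succ, List.getD_nil, el_nil]; exact one_mem _
  have hflat : ∀ bs : List ℕ, el (flatS bs) ∈ stab0 := by
    intro bs
    induction bs with
    | nil => exact (el_nil).symm ▸ one_mem _
    | cons b bs ih =>
      rw [flatS, List.flatMap_cons, el_append]
      exact mul_mem (hblk b) ih
  set A := rep100 u with hA
  have hcomm : ∀ bs : List ℕ, letOK 5 (flatS bs) = true → ∀ q : Fin 100,
      hund.actW (flatS bs) q.1 = q.1 → hund.actW (flatS bs) (A q).1 = (A q).1 := by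
    intro bs hl q hq
    have hc : Commute A (rep100 (wv g5 (flatS bs))) := (hu _ (hflat bs)).map rep100
    rw [rep100_wv] at hc
    have e1 := wv_sig_inv_apply hund_ok _ (letOK_spec hl) q
    have e2 := wv_sig_inv_apply hund_ok _ (letOK_spec hl) (A q)
    have e3 := congrArg (fun p : Equiv.Perm (Fin hund.n) => p q) hc.inv_right.eq
    simp only [Equiv.Perm.mul_apply] at e3
    rw [show ((wv (hund.sig hund_ok) (flatS bs))⁻¹ q) = q from Fin.ext (e1.trans hq)] at e3
    rw [← e2]
    exact congrArg Fin.val e3.symm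
  have himg : ∀ bs : List ℕ, letOK 5 (flatS bs) = true → ∀ q p : Fin 100,
      hund.actW (flatS bs) q.1 = p.1 → A q = q → A p = p := by
    intro bs hl q p hqp hq
    have hc : Commute A (rep100 (wv g5 (flatS bs))) := (hu _ (hflat bs)).map rep100
    rw [rep100_wv] at hc
    have e1 := wv_sig_inv_apply hund_ok _ (letOK_spec hl) q
    have e3 := congrArg (fun p : Equiv.Perm (Fin hund.n) => p q) hc.inv_right.eq
    simp only [Equiv.Perm.mul_apply] at e3
    rw [hq, show ((wv (hund.sig hund_ok) (flatS bs))⁻¹ q) = p from Fin.ext (e1.trans hqp)] at e3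
    exact e3
  simp only [List.all_eq_true, Bool.and_eq_true, Nat.beq_eq] at hw
  have hroot : ∀ e ∈ fixWords, ∀ he : e.1 < 100, A ⟨e.1, he⟩ = ⟨e.1, he⟩ := by
    intro e he h100
    obtain ⟨⟨⟨⟨l1, l2⟩, f1⟩, f2⟩, hone⟩ := hw e he
    have k1 := hcomm _ l1 ⟨e.1, h100⟩ f1
    have k2 := hcomm _ l2 ⟨e.1, h100⟩ f2
    have := allLo_spec hone (A ⟨e.1, h100⟩).2
    simp only [Bool.or_eq_true, Bool.not_eq_true', Nat.beq_eq] at this
    rcases this with (h | h) | h
    · exact Fin.ext h
    · rw [show Nat.beq _ _ = true from Nat.beq_eq ▸ k1] at h; exact absurd h (by simp)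
    · rw [show Nat.beq _ _ = true from Nat.beq_eq ▸ k2] at h; exact absurd h (by simp)
  have hord : ∀ k, k < 100 → ∀ p : Fin 100, orderS.getD k 0 = p.1 → A p = p := by
    intro k
    induction k using Nat.strongRecOn with
    | _ k ih =>
      intro hk p hp
      match k, hk, hp, ih with
      | 0, _, hp, _ =>
        rw [show p = ⟨0, by norm_num⟩ from Fin.ext hp.symm]
        exact hroot _ (List.mem_cons_self) (by norm_num)
      | 1, _, hp, _ =>
        rw [show p = ⟨1, by norm_num⟩ from Fin.ext hp.symm]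
        exact hroot _ (List.mem_cons_of_mem _ List.mem_cons_self) (by norm_num)
      | j + 2, hk, hp, ih =>
        have hs := allLo_spec hsteps (show j < 98 by omega)
        simp only [Bool.and_eq_true, Nat.blt_eq, Nat.beq_eq] at hs
        obtain ⟨⟨hlt, h2⟩, hact⟩ := hs
        have hlen : ∀ i, orderS.getD i 0 < 100 := fun i => by
          have hb : orderS.all (fun p => Nat.blt p 100) = true := by decide +kernel
          rcases Nat.lt_or_ge i orderS.length with hi | hi
          · rw [List.getD_eq_getElem _ _ hi]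
            exact Nat.blt_eq ▸ List.all_eq_true.1 hb _ (List.getElem_mem hi)
          · rw [List.getD_eq_default _ _ hi]; norm_num
        have hl' : letOK 5 (flatS [(stepsS.getD j (0, 0)).2]) = true := by
          obtain ⟨b, hb⟩ : ∃ b, b = (stepsS.getD j (0, 0)).2 := ⟨_, rfl⟩
          rw [← hb] at h2 ⊢
          interval_cases b
          exacts [hl.1, hl.2]
        exact himg _ hl' ⟨_, hlen _⟩ p (hact.trans hp) (ih _ hlt (by omega) ⟨_, hlen _⟩ rfl)
  have hA1 : rep100 u = 1 := Equiv.ext fun p => by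
    have h := allLo_spec hall p.2
    simp only [List.any_eq_true, Nat.beq_eq] at h
    obtain ⟨p', hp', rfl⟩ := h
    obtain ⟨k, hk, e⟩ := List.mem_iff_getElem.1 hp'
    exact hord k hk p (by rw [List.getD_eq_getElem _ _ hk, e])
  have hK := (cent_eleven (u := u) (by rw [hA1]; exact Commute.one_left _)).1
  exact ker_cases hK hA1

end

end Cfsg.Agent.HNOut
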