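import Cfsg.Agent.Lib.HN.Theory
import Cfsg.Agent.Lib.HNOut.StabCent

/-!
Cosets fixed by an element of order 11 and by the stabiliser of a point.
-/

set_option autoImplicit false
set_option maxRecDepth 100000
set_option linter.style.haveILetI false

namespace Cfsg.Agent.HNOut

open Cfsg.Agent.HN Cfsg.Agent.HNMult
open Cfsg.Spor

noncomputable section

variable {X : XData} (hX : XOK X)
include hX

/-- An element fixing the first coset lies in the subgroup of `x, y, z`. -/
theorem mem_range_of_base {g : Spor.HN} (hg : modelHom hX g (basePt hX) = basePt hX) : g ∈ psiHN.range := by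
  haveI : Finite Spor.HN := finite_HN hX
  let f : Spor.HN ⧸ psiHN.range → X.O.Pt := fun c => modelHom hX c.out (basePt hX)
  have hf : ∀ a : Spor.HN, f (QuotientGroup.mk a) = modelHom hX a (basePt hX) := fun a => by
    obtain ⟨⟨_, b, rfl⟩, hb⟩ := QuotientGroup.mk_out_eq_mul psiHN.range a
    show modelHom hX (QuotientGroup.mk a : Spor.HN ⧸ psiHN.range).out (basePt hX) = _
    rw [hb, map_mul, Equiv.Perm.mul_apply, psi_fix hX]
  have hs : Function.Surjective f := fun p => by
    obtain ⟨a, ha⟩ := orbit_full hX p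
    exact ⟨QuotientGroup.mk a, (hf a).trans ha⟩
  have hc : Nat.card (Spor.HN ⧸ psiHN.range) = Nat.card X.O.Pt := by
    rw [OData.card_pt hX.omega, hX.sizes, ← Subgroup.index_eq_card, index_eq hX]
  have hinj : Function.Injective f := ((Nat.bijective_iff_surjective_and_card f).2 ⟨hs, hc⟩).1
  have := hinj ((hf g).trans (hg.trans (by rw [hf, map_one, Equiv.Perm.one_apply] : basePt hX = f (QuotientGroup.mk 1))))
  rw [QuotientGroup.eq, mul_one, inv_mem_iff] at this
  exact this

/-- A coset fixed by an element lies at a node containing a conjugate. -/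
theorem conj_mem_of_fixed {k : ℕ} (hk : k < X.O.nodes.length) {h a : H0}
    (e : X.O.rho a (X.O.pt k hk h) = X.O.pt k hk h) : h * a * h⁻¹ ∈ X.O.sgrp k := by
  have h1 := OData.rho_pt (O := X.O) hk a⁻¹ h
  rw [inv_inv, e] at h1
  have := inv_mem (OData.pt_mem hk h1.symm)
  simpa [mul_assoc] using this

/-- The value of the map at an element commuting with an element of the subgroup is fixed by it. -/
theorem fixed_of_comm {g : Spor.HN} {a : H0} (h : Commute g (psiHN a)) :
    X.O.rho a (modelHom hX g (basePt hX)) = modelHom hX g (basePt hX) := by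
  rw [← modelHom_psi hX, ← Equiv.Perm.mul_apply, ← map_mul, ← h.eq, map_mul, Equiv.Perm.mul_apply, psi_fix hX]

/-- An element centralising the element of order 11 lies in the subgroup. -/
theorem cent_le_range (h11 : allLo (fun k => Nat.beq k 0 || !(Nat.beq (schainSize (X.O.node k).chain % 11) 0))
    X.O.nodes.length = true) {q : H0} (hq : orderOf q = 11) {g : Spor.HN} (hg : Commute g (psiHN q)) :
    g ∈ psiHN.range := by
  obtain ⟨k, hk, h, e⟩ := OData.pt_surj (modelHom hX g (basePt hX))
  have hfix := fixed_of_comm hX hg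
  rw [e] at hfix
  have hm := conj_mem_of_fixed hX hk hfix
  have hcard : Nat.card (X.O.sgrp k) = schainSize (X.O.node k).chain := (schain_exact (hX.omega.chain k hk)).2
  have hd : 11 ∣ schainSize (X.O.node k).chain := by
    rw [← hcard, ← hq, show orderOf q = orderOf (h * q * h⁻¹) from (orderOf_injective (MulAut.conj h).toMonoidHom
      (MulAut.conj h).injective q).symm, ← Subgroup.orderOf_mk (h * q * h⁻¹) hm]
    exact orderOf_dvd_natCard _
  have hk0 : k = 0 := by
    have := allLo_spec h11 hk
    simp only [Bool.or_eq_true, Bool.not_eq_true', Nat.beq_eq] at this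
    refine this.resolve_right fun h0 => ?_
    rw [Nat.mod_eq_zero_of_dvd hd] at h0
    simp at h0
  subst hk0
  refine mem_range_of_base hX (e.trans (OData.pt_eq _ ?_))
  rw [node0_top hX]
  exact Subgroup.mem_top _

/-- A power of `x` moves `t` to a power. -/
theorem x_pow_conj : ∀ n : ℕ, psiHN (hx ^ n) * tHN = tHN ^ (2 ^ n) * psiHN (hx ^ n) := by
  intro n
  induction n with
  | zero => simp
  | succ n ih =>
    rw [pow_succ' hx, map_mul, mul_assoc, ih, ← mul_assoc, GRules.x_pow rulesHN, mul_assoc, pow_succ' 2 n]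

/-- An element commuting with the stabiliser of `0` lies in the subgroup, or differs from a power of `t` by an
element of the subgroup commuting with the stabiliser. -/
theorem cent_stab_cases (hs0 : schainSize X.kchain = 126000)
    (hdiv : allLo (fun k => !(Nat.beq (schainSize (X.O.node k).chain % 126000) 0) || Nat.blt k 2) X.O.nodes.length = true)
    (hsz1 : schainSize (X.O.node 1).chain = 126000) {g : Spor.HN} (hg : ∀ a ∈ stab0, Commute g (psiHN a)) :
    g ∈ psiHN.range ∨ ∃ m : ℕ, ∃ u : H0, (∀ a ∈ stab0, Commute u a) ∧ g = tHN ^ m * psiHN u := by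
  haveI : Finite H0 := Nat.finite_of_card_ne_zero (by rw [card_H0]; norm_num)
  have hcS : Nat.card stab0 = 126000 := by
    rw [stab0_eq hX]
    have hk := hX.groups
    simp only [XData.okGroups, Bool.and_eq_true] at hk
    exact (schain_exact hk.1.1.1.1.1.1.1.1.1.1).2.trans hs0
  have hn1 := hX.node1.1
  have hS1 : X.O.sgrp 1 = stab0 := by
    have hle : X.O.sgrp 1 ≤ stab0 := by
      obtain ⟨_, hgs⟩ := hX.node1
      simp only [List.all_eq_true, Bool.and_eq_true, Nat.beq_eq] at hgs
      rw [OData.sgrp, grp, Subgroup.closure_le]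
      rintro a ⟨q, hqm, rfl⟩
      exact mem_stab0.2 (Fin.ext (by rw [pi_el (hgs q hqm).2, (hgs q hqm).1]; simp [pi]))
    refine Subgroup.eq_of_le_of_card_ge hle ?_
    rw [hcS, OData.sgrp, (schain_exact (hX.omega.chain 1 hn1)).2, hsz1]
  -- the coset of an element commuting with the stabiliser
  have key : ∀ s : Spor.HN, (∀ a ∈ stab0, Commute s (psiHN a)) →
      s ∈ psiHN.range ∨ ∃ i : ℕ, modelHom hX s (basePt hX) = X.O.rho (hx ^ i) (X.O.pt 1 hn1 1) := by
    intro s hs
    obtain ⟨k, hk, h, e⟩ := OData.pt_surj (modelHom hX s (basePt hX))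
    have hm : ∀ a ∈ stab0, h * a * h⁻¹ ∈ X.O.sgrp k := fun a ha => by
      have hfix := fixed_of_comm hX (hs a ha)
      rw [e] at hfix
      exact conj_mem_of_fixed hX hk hfix
    have hdvd : 126000 ∣ schainSize (X.O.node k).chain := by
      have hle : stab0.map (MulAut.conj h).toMonoidHom ≤ X.O.sgrp k := by
        rintro _ ⟨a, ha, rfl⟩
        exact hm a ha
      have := Subgroup.card_dvd_of_le hle
      rwa [Subgroup.card_map_of_injective (MulAut.conj h).injective, hcS, OData.sgrp,
        (schain_exact (hX.omega.chain k hk)).2] at this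
    have := allLo_spec hdiv hk
    simp only [Bool.or_eq_true, Bool.not_eq_true', Nat.blt_eq] at this
    have hk2 : k < 2 := this.resolve_left fun h0 => by
      rw [Nat.mod_eq_zero_of_dvd hdvd] at h0; simp at h0
    interval_cases k
    · refine Or.inl (mem_range_of_base hX (e.trans (OData.pt_eq _ ?_)))
      rw [node0_top hX]
      exact Subgroup.mem_top _
    · rw [hS1] at hm
      obtain ⟨i, hi, hmem⟩ := norm_stab0 hX hm
      refine Or.inr ⟨i, e.trans ?_⟩
      have h1 := OData.rho_pt (O := X.O) hn1 (hx ^ i)⁻¹ 1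
      rw [inv_inv, one_mul] at h1
      rw [h1]
      exact OData.pt_eq _ (by rw [inv_inv, hS1]; exact hmem)
  have htc : ∀ a ∈ stab0, Commute tHN (psiHN a) := by
    have hfc := fixComm hX rulesHN
    intro a ha
    have hle : Subgroup.closure ({el [2], el [1, 2, 0]} : Set H0) ≤ (Subgroup.centralizer {tHN}).comap psiHN := by
      rw [Subgroup.closure_le]
      rintro b (rfl | rfl) <;> rw [SetLike.mem_coe, Subgroup.mem_comap, Subgroup.mem_centralizer_singleton_iff]
      · rw [el_x.2.2.1]; exact rulesHN.commy.eq.symm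
      · have hy' := rulesHN.commy
        have h2 := x_pow_conj hX 1
        rw [show el [1, 2, 0] = hx⁻¹ * hy * hx by simp [el, wv, g5, mul_assoc], map_mul, map_mul, map_inv]
        rw [pow_one, pow_one] at h2
        have h3 : psiHN hx * tHN * (psiHN hx)⁻¹ = tHN ^ 2 := by rw [h2, mul_inv_cancel_right]
        have h4 : Commute (psiHN hx * tHN * (psiHN hx)⁻¹) (psiHN hy) := by rw [h3]; exact hy'.pow_left 2
        have h5 := h4.conj (psiHN hx)⁻¹
        rw [inv_inv] at h5
        have h6 : Commute tHN ((psiHN hx)⁻¹ * psiHN hy * psiHN hx) := by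
          convert h5 using 1
          group
        exact h6.eq.symm
    have hgen : stab0 ≤ Subgroup.closure ({el [2], el [1, 2, 0]} : Set H0) := by
      rw [stab0_eq hX]
      obtain ⟨hg', h3, h90⟩ := kgens hX
      rw [grp, hg', Subgroup.closure_le]
      rintro b ⟨q, hq, rfl⟩
      rcases List.mem_pair.1 hq with rfl | rfl
      · rw [h3]; exact Subgroup.subset_closure (Or.inl rfl)
      · rw [h90]; exact Subgroup.subset_closure (Or.inr rfl)
    exact (Subgroup.mem_centralizer_singleton_iff.1 (hle (hgen ha))).symm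
  rcases key g hg with h | ⟨i, hi⟩
  · exact Or.inl h
  rcases key tHN htc with h | ⟨j, hj⟩
  · exfalso
    have htop : psiHN.range = ⊤ := by
      rw [eq_top_iff, ← top_eq, Subgroup.closure_le]
      rintro a (⟨b, rfl⟩ | ha)
      · exact ⟨b, rfl⟩
      · rw [Set.mem_singleton_iff.1 ha]; exact h
    have h1 := index_eq hX
    rw [htop, Subgroup.index_top] at h1
    omega
  refine Or.inr ⟨2 ^ (i + 3 * j), ?_⟩
  have hx4 : hx ^ (i + 3 * j) * hx ^ j = hx ^ i := by
    rw [← pow_add, show i + 3 * j + j = i + 4 * j by ring, pow_add, pow_mul, hx_pow_four, one_pow, mul_one]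
  have hbase : modelHom hX ((psiHN (hx ^ (i + 3 * j)) * tHN)⁻¹ * g) (basePt hX) = basePt hX := by
    rw [map_mul, Equiv.Perm.mul_apply, hi, map_inv, Equiv.Perm.inv_eq_iff_eq, map_mul, Equiv.Perm.mul_apply, hj,
      modelHom_psi, ← Equiv.Perm.mul_apply, ← map_mul, hx4]
  obtain ⟨v, hv⟩ := mem_range_of_base hX hbase
  have he : g = tHN ^ (2 ^ (i + 3 * j)) * psiHN (hx ^ (i + 3 * j) * v) := by
    rw [map_mul, hv, ← mul_assoc, ← x_pow_conj hX, mul_inv_cancel_left]
  refine ⟨hx ^ (i + 3 * j) * v, fun a ha => psiHN_injective hX ?_, he⟩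
  have h1 := (((htc a ha).pow_left (2 ^ (i + 3 * j))).inv_left).mul_left (hg a ha)
  rw [he, inv_mul_cancel_left] at h1
  exact (map_mul psiHN _ a).trans (h1.eq.trans (map_mul psiHN a _).symm)

end

end Cfsg.Agent.HNOut
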