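import Cfsg.Agent.Lib.HNMult.Derived
import Cfsg.Agent.Lib.HNOut.Eleven
import Cfsg.Prelude.Def_KGroupFacts

/-!
An injective endomorphism of the group of `x, y, z` is conjugation modulo the square of `x` on the commutator
subgroup, given that HS has two classes of automorphisms.
-/

set_option autoImplicit false
set_option maxRecDepth 100000
set_option linter.style.haveILetI false

namespace Cfsg.Agent.HNOut

open Cfsg.Agent.HN Cfsg.Agent.HNMult
open Cfsg.Agent.PermCert Cfsg.Agent.SporPerm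
open scoped commutatorElement

noncomputable section

/-- An endomorphism respects the commutator subgroup. -/
theorem map_derived (f : H0 →* H0) {k : H0} (hk : k ∈ commutator H0) : f k ∈ commutator H0 := by
  have hle : (commutator H0).map f ≤ commutator H0 := by
    rw [commutator_def, Subgroup.map_commutator]
    exact Subgroup.commutator_mono le_top le_top
  exact hle ⟨k, hk, rfl⟩

/-- The automorphism of HS induced by an injective endomorphism. -/
theorem exists_induced (f : H0 →* H0) (hf : Function.Injective f) (hfix : f (hx ^ 2) = hx ^ 2) :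
    ∃ ω : MulAut ↥(genGroup 7 100 hsGens), ∀ k : ↥(commutator H0),
      ((ω (toHS k) : ↥(genGroup 7 100 hsGens)) : Equiv.Perm (Fin 100)) = rep100 (f k) := by
  haveI : Finite H0 := Nat.finite_of_card_ne_zero (by rw [card_H0]; norm_num)
  obtain ⟨hs, hker, -, -⟩ := toHS_facts
  let fK : ↥(commutator H0) →* ↥(commutator H0) :=
    (f.comp (commutator H0).subtype).codRestrict _ fun k => map_derived f k.2
  have hle : toHS.ker ≤ (toHS.comp fK).ker := fun k hk => by
    have h1 : rep100 (k : H0) = 1 := congrArg Subtype.val hk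
    refine Subtype.ext ?_
    show rep100 (f k) = 1
    rcases ker_cases k.2 h1 with h | h
    · rw [h, map_one, map_one]
    · rw [h, hfix, x_sq_trivial]
  let ω0 := toHS.liftOfSurjective hs ⟨toHS.comp fK, hle⟩
  have hω : ∀ k, ω0 (toHS k) = toHS (fK k) := fun k => toHS.liftOfRightInverse_comp_apply _ _ ⟨toHS.comp fK, hle⟩ k
  haveI := hs_facts.2
  have hinj : Function.Injective ω0 := by
    rw [← MonoidHom.ker_eq_bot_iff]
    refine (MonoidHom.normal_ker ω0).eq_bot_or_eq_top.resolve_right fun h => ?_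
    have hall : ∀ k, fK k ∈ toHS.ker := fun k => by
      rw [MonoidHom.mem_ker, ← hω k]
      exact (h.ge (Subgroup.mem_top (toHS k)) :)
    have hfk : Function.Injective fun k : ↥(commutator H0) => (⟨fK k, hall k⟩ : ↥toHS.ker) := fun a b e =>
      Subtype.ext (hf (congrArg (fun c : ↥toHS.ker => ((c : ↥(commutator H0)) : H0)) e))
    have h1 := Nat.card_le_card_of_injective _ hfk
    have h2 := Subgroup.card_mul_index (commutator H0)
    rw [index_derived.1, card_H0] at h2
    omega
  haveI : Finite ↥(genGroup 7 100 hsGens) := inferInstance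
  exact ⟨MulEquiv.ofBijective ω0 ⟨hinj, (Finite.injective_iff_surjective.1 hinj)⟩,
    fun k => congrArg Subtype.val (hω k)⟩

/-- Modulo the square of `x` an injective endomorphism is a conjugation on the commutator subgroup. -/
theorem exists_conj (hout : Nat.card (Cfsg.Out ↥(genGroup 7 100 hsGens)) = 2) (f : H0 →* H0)
    (hf : Function.Injective f) (hfix : f (hx ^ 2) = hx ^ 2) :
    ∃ h : H0, ∀ k ∈ commutator H0, rep100 (f k) = rep100 (h * k * h⁻¹) := by
  obtain ⟨hs, -, -, -⟩ := toHS_facts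
  obtain ⟨ω, hω⟩ := exists_induced f hf hfix
  obtain ⟨ζ, hζ⟩ := exists_induced (MulAut.conj hz).toMonoidHom (MulAut.conj hz).injective (by
    show hz * hx ^ 2 * hz⁻¹ = hx ^ 2
    rw [← hx_sq_comm_z.eq, mul_inv_cancel_right])
  have hidx : (Cfsg.Inn ↥(genGroup 7 100 hsGens)).index = 2 := by rw [Subgroup.index_eq_card]; exact hout
  have hinn : ∀ ρ : MulAut ↥(genGroup 7 100 hsGens), ρ ∈ Cfsg.Inn ↥(genGroup 7 100 hsGens) →
      ∃ s : ↥(commutator H0), ∀ g : ↥(genGroup 7 100 hsGens),
        ((ρ g : ↥(genGroup 7 100 hsGens)) : Equiv.Perm (Fin 100)) = rep100 s * g * (rep100 s)⁻¹ := by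
    rintro _ ⟨s, rfl⟩
    obtain ⟨k, rfl⟩ := hs s
    exact ⟨k, fun g => rfl⟩
  have hζo : ζ ∉ Cfsg.Inn ↥(genGroup 7 100 hsGens) := fun hmem => by
    obtain ⟨s, hs'⟩ := hinn ζ hmem
    obtain ⟨q, hqK, hq, -, -⟩ := exists_eleven
    have e := (hs' (toHS ⟨q, hqK⟩)).symm.trans (hζ ⟨q, hqK⟩)
    have hc : Commute (rep100 (hz⁻¹ * s)) X11 := by
      rw [← hq]
      have e' : rep100 s * rep100 q * (rep100 s)⁻¹ = rep100 hz * rep100 q * (rep100 hz)⁻¹ := by
        refine e.trans ?_
        show rep100 (hz * q * hz⁻¹) = _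
        rw [map_mul, map_mul, map_inv]
      rw [map_mul, map_inv]
      show (rep100 hz)⁻¹ * rep100 s * rep100 q = rep100 q * ((rep100 hz)⁻¹ * rep100 s)
      calc (rep100 hz)⁻¹ * rep100 s * rep100 q = (rep100 hz)⁻¹ * (rep100 s * rep100 q * (rep100 s)⁻¹) * rep100 s := by group
        _ = _ := by rw [e']; group
    have hmem' := (cent_eleven hc).1
    rw [Subgroup.mul_mem_cancel_right _ s.2, inv_mem_iff] at hmem'
    exact z_not_hs (index_derived.2 hmem')
  by_cases hω' : ω ∈ Cfsg.Inn ↥(genGroup 7 100 hsGens)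
  · obtain ⟨s, hs'⟩ := hinn ω hω'
    refine ⟨s, fun k hk => ?_⟩
    rw [← hω ⟨k, hk⟩, hs', map_mul, map_mul, map_inv]
    rfl
  · have hprod : ω * ζ ∈ Cfsg.Inn ↥(genGroup 7 100 hsGens) := by
      rw [Subgroup.mul_mem_iff_of_index_two hidx]
      exact iff_of_false hω' hζo
    obtain ⟨s, hs'⟩ := hinn _ hprod
    refine ⟨s * hz, fun k hk => ?_⟩
    have hk' : hz⁻¹ * k * hz ∈ commutator H0 := by
      have := (inferInstance : (commutator H0).Normal).conj_mem k hk hz⁻¹
      rwa [inv_inv] at this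
    have h1 : ζ (toHS ⟨_, hk'⟩) = toHS ⟨k, hk⟩ := Subtype.ext ((hζ ⟨_, hk'⟩).trans (congrArg rep100 (by
      show hz * (hz⁻¹ * k * hz) * hz⁻¹ = k
      group)))
    rw [← hω ⟨k, hk⟩, ← h1]
    refine (hs' (toHS ⟨_, hk'⟩)).trans ?_
    show rep100 (s : H0) * rep100 (hz⁻¹ * k * hz) * (rep100 s)⁻¹ = _
    have e : hz⁻¹ * k * hz = hz * k * hz⁻¹ := by rw [hz_inv]
    rw [e, show (s : H0) * hz * k * ((s : H0) * hz)⁻¹ = s * (hz * k * hz⁻¹) * (s : H0)⁻¹ by group]
    generalize hz * k * hz⁻¹ = r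
    rw [map_mul, map_mul, map_inv]

end

end Cfsg.Agent.HNOut
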