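import Cfsg.Agent.Lib.HNOut.Fixed
import Cfsg.Prelude.Def_KGroupFacts

/-!
The twisting automorphism: `x, y` fixed, `z` multiplied by the square of `x`, `t` squared.
-/

set_option autoImplicit false
set_option maxRecDepth 100000
set_option linter.style.haveILetI false

namespace Cfsg.Agent.HNOut

open Cfsg.Agent.HN Cfsg.Agent.HNMult
open Cfsg.Spor

noncomputable section

open Classical in
/-- The sign, with values one and the square of `x`. -/
def eps : H0 →* H0 :=
  MonoidHom.mk' (fun g => if g ∈ commutator H0 then 1 else hx ^ 2) fun a b => by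
    have hc : hx ^ 2 * hx ^ 2 = 1 := by rw [← pow_add, hx_pow_four]
    by_cases ha : a ∈ commutator H0 <;> by_cases hb : b ∈ commutator H0 <;>
      simp [ha, hb, hc, Subgroup.mul_mem_iff_of_index_two index_derived.1]

theorem eps_central (g a : H0) : Commute (eps g) a := by
  classical
  show Commute (if g ∈ commutator H0 then 1 else hx ^ 2) a
  split_ifs
  · exact Commute.one_left a
  · exact (Subgroup.mem_center_iff.1 hx_sq_central a).symm

/-- The twist on the group of `x, y, z`. -/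
def twist : H0 →* H0 :=
  MonoidHom.mk' (fun g => g * eps g) fun a b => by
    rw [map_mul]
    calc a * b * (eps a * eps b) = a * (b * eps a) * eps b := by group
      _ = _ := by rw [(eps_central a b).symm.eq]; group

theorem hz_not_mem : hz ∉ commutator H0 := fun h => z_not_hs (index_derived.2 h)

theorem twist_gens : twist hx = hx ∧ twist hy = hy ∧ twist hz = hz * hx ^ 2 := by
  classical
  obtain ⟨h1, h2⟩ := gens_in_derived
  refine ⟨?_, ?_, ?_⟩
  · show hx * (if hx ∈ commutator H0 then 1 else hx ^ 2) = hx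
    rw [if_pos h1, mul_one]
  · show hy * (if hy ∈ commutator H0 then 1 else hx ^ 2) = hy
    rw [if_pos h2, mul_one]
  · show hz * (if hz ∈ commutator H0 then 1 else hx ^ 2) = hz * hx ^ 2
    rw [if_neg hz_not_mem]

/-- The square of `x` inverts `t`. -/
theorem x2_inverts : psiHN (hx ^ 2) * tHN * (psiHN (hx ^ 2))⁻¹ = tHN⁻¹ := by
  have h2 : psiHN (hx ^ 2) * tHN = tHN ^ 4 * psiHN (hx ^ 2) := by
    have h1 := GRules.x_pow rulesHN 1
    have h22 := GRules.x_pow rulesHN 2
    rw [pow_one, mul_one] at h1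
    rw [map_pow, sq, mul_assoc, h1, ← mul_assoc, h22, show 2 * 2 = 4 by norm_num, mul_assoc]
  rw [h2, mul_inv_cancel_right, GRules.pow4 rulesHN]

/-- The product of `z`, the square of `x` and a power of `t`. -/
theorem cube_twist : (psiHN hz * psiHN (hx ^ 2) * tHN ^ 2) ^ 3 = 1 := by
  have hxz : hx⁻¹ * hz * hx = hz * hx ^ 2 := by
    have h := relH6 (w := [4, 0, 4, 0]) (by decide +kernel)
    have h' : hz * (hx * (hz * hx)) = 1 := by simpa [wv, g6] using h
    have e : hx⁻¹ = hz * hx * hz := (eq_inv_of_mul_eq_one_left (by rw [← h']; group)).symm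
    rw [e]
    calc hz * hx * hz * hz * hx = hz * hx * (hz * hz) * hx := by group
      _ = hz * hx ^ 2 := by rw [hz_sq, mul_one, mul_assoc, ← sq]
  have hc : Commute (psiHN (hx ^ 2)) (psiHN hz) := hx_sq_comm_z.map psiHN
  have hx4 : psiHN (hx ^ 2) * psiHN (hx ^ 2) = 1 := by rw [← map_mul, ← pow_add, hx_pow_four, map_one]
  have h1 : ((psiHN hx)⁻¹ * (psiHN hz * tHN) * psiHN hx) ^ 3 = 1 := by
    have h := conj_pow (i := 3) (a := (psiHN hx)⁻¹) (b := psiHN hz * tHN)
    rw [inv_inv] at h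
    rw [h, rulesHN.cube, mul_one, inv_mul_cancel]
  have h2 : (psiHN hx)⁻¹ * (psiHN hz * tHN) * psiHN hx = psiHN hz * psiHN (hx ^ 2) * (tHN ^ 2)⁻¹ := by
    have e1 : (psiHN hx)⁻¹ * tHN * psiHN hx = (tHN ^ 2)⁻¹ := eq_inv_of_mul_eq_one_left rulesHN.conjx
    rw [← map_mul, ← hxz, map_mul, map_mul, map_inv, ← e1]
    group
  rw [h2] at h1
  have h3 := conj_pow (i := 3) (a := psiHN (hx ^ 2)) (b := psiHN hz * psiHN (hx ^ 2) * (tHN ^ 2)⁻¹)
  rw [h1, mul_one, mul_inv_cancel] at h3
  have h4 : psiHN (hx ^ 2) * (psiHN hz * psiHN (hx ^ 2) * (tHN ^ 2)⁻¹) * (psiHN (hx ^ 2))⁻¹ =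
      psiHN hz * psiHN (hx ^ 2) * tHN ^ 2 := by
    have e : psiHN (hx ^ 2) * (tHN ^ 2)⁻¹ * (psiHN (hx ^ 2))⁻¹ = tHN ^ 2 := by
      calc psiHN (hx ^ 2) * (tHN ^ 2)⁻¹ * (psiHN (hx ^ 2))⁻¹
          = ((psiHN (hx ^ 2) * tHN * (psiHN (hx ^ 2))⁻¹) ^ 2)⁻¹ := by
            rw [conj_pow, mul_inv_rev, mul_inv_rev, inv_inv, ← mul_assoc]
        _ = tHN ^ 2 := by rw [x2_inverts, inv_pow, inv_inv]
    calc psiHN (hx ^ 2) * (psiHN hz * psiHN (hx ^ 2) * (tHN ^ 2)⁻¹) * (psiHN (hx ^ 2))⁻¹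
        = psiHN (hx ^ 2) * psiHN hz * (psiHN (hx ^ 2) * (tHN ^ 2)⁻¹ * (psiHN (hx ^ 2))⁻¹) := by group
      _ = _ := by rw [e, hc.eq]
  rwa [h4] at h3

theorem twist_rules : GRules (psiHN.comp twist) (tHN ^ 2) := by
  obtain ⟨e1, e2, e3⟩ := twist_gens
  refine ⟨?_, ?_, ?_, ?_⟩
  · rw [← pow_mul, show 2 * 5 = 5 * 2 by norm_num, pow_mul, rulesHN.pow5, one_pow]
  · have h : (psiHN hx)⁻¹ * tHN * psiHN hx = (tHN ^ 2)⁻¹ := eq_inv_of_mul_eq_one_left rulesHN.conjx
    rw [MonoidHom.comp_apply, e1]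
    have h' := conj_pow (i := 2) (a := (psiHN hx)⁻¹) (b := tHN)
    rw [inv_inv, h, inv_pow] at h'
    rw [← h']
    exact inv_mul_cancel _
  · rw [MonoidHom.comp_apply, e2]
    exact rulesHN.commy.pow_left 2
  · rw [MonoidHom.comp_apply, e3, map_mul]
    exact cube_twist

/-- The twisting endomorphism. -/
def alphaHom : Spor.HN →* Spor.HN := outHN twist_rules

theorem alpha_psi (a : H0) : alphaHom (psiHN a) = psiHN (twist a) :=
  DFunLike.congr_fun (outHN_gen twist_rules).2 a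

theorem alpha_t : alphaHom tHN = tHN ^ 2 := (outHN_gen twist_rules).1

theorem alpha_surjective : Function.Surjective alphaHom := by
  rw [← MonoidHom.range_eq_top, eq_top_iff, ← top_eq, Subgroup.closure_le]
  rintro g (⟨a, rfl⟩ | hg)
  · refine ⟨psiHN (twist a), ?_⟩
    rw [alpha_psi]
    congr 1
    classical
    show a * eps a * eps (a * eps a) = a
    have he : eps (eps a) = 1 := by
      show eps (if a ∈ commutator H0 then 1 else hx ^ 2) = 1
      split_ifs
      · exact map_one _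
      · show (if hx ^ 2 ∈ commutator H0 then 1 else hx ^ 2) = 1
        rw [if_pos (Subgroup.pow_mem _ gens_in_derived.1 2)]
    have hee : eps a * eps a = 1 := by
      show (if a ∈ commutator H0 then 1 else hx ^ 2) * (if a ∈ commutator H0 then 1 else hx ^ 2) = 1
      split_ifs
      · exact one_mul _
      · rw [← pow_add, hx_pow_four]
    rw [map_mul, he, mul_one, mul_assoc, hee, mul_one]
  · rw [Set.mem_singleton_iff.1 hg]
    refine ⟨tHN ^ 3, ?_⟩
    rw [map_pow, alpha_t, ← pow_mul, pow_succ (n := 5), rulesHN.pow5, one_mul]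

end

end Cfsg.Agent.HNOut
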