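import Cfsg.Agent.Lib.HN.Main
import Cfsg.Agent.Lib.HNOut.Induced
import Cfsg.Agent.Lib.HNOut.Twist
import Mathlib.GroupTheory.Sylow

/-!
The outer automorphism group of the presented Harada-Norton group has order two, given that of HS.
-/

set_option autoImplicit false
set_option maxRecDepth 100000
set_option linter.style.haveILetI false
set_option maxHeartbeats 1000000

namespace Cfsg.Agent.HNOut

open Cfsg.Agent.HN Cfsg.Agent.HNMult
open Cfsg.Agent.HN.Dat (xok defsOK maxOK)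
open Cfsg.Agent.PermCert Cfsg.Agent.SporPerm
open Cfsg.Spor

noncomputable section

theorem eleven_ok : allLo (fun k => Nat.beq k 0 || !(Nat.beq (schainSize (Dat.xd.O.node k).chain % 11) 0))
    Dat.xd.O.nodes.length = true := by decide +kernel

theorem sizes_ok : schainSize Dat.xd.kchain = 126000 ∧
    allLo (fun k => !(Nat.beq (schainSize (Dat.xd.O.node k).chain % 126000) 0) || Nat.blt k 2)
      Dat.xd.O.nodes.length = true ∧ schainSize (Dat.xd.O.node 1).chain = 126000 := by decide +kernel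

theorem range_ne_top : psiHN.range ≠ ⊤ := fun h => by
  have := index_eq xok
  rw [h, Subgroup.index_top] at this
  omega

theorem t_not_mem : tHN ∉ psiHN.range := fun h => range_ne_top (top_le_iff.1 (top_eq.ge.trans (by
  rw [Subgroup.closure_le]
  rintro a (⟨b, rfl⟩ | ha)
  · exact ⟨b, rfl⟩
  · rw [Set.mem_singleton_iff.1 ha]; exact h)))

/-- The centraliser of the square of `x` is the subgroup of `x, y, z`. -/
theorem cent_x2 {g : Spor.HN} : Commute g (psiHN (hx ^ 2)) ↔ g ∈ psiHN.range := by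
  have hle : psiHN.range ≤ Subgroup.centralizer {psiHN (hx ^ 2)} := by
    rintro _ ⟨a, rfl⟩
    rw [Subgroup.mem_centralizer_singleton_iff, ← map_mul, ← map_mul]
    rw [Subgroup.mem_center_iff.1 hx_sq_central a]
  refine ⟨fun h => ?_, fun h => Subgroup.mem_centralizer_singleton_iff.1 (hle h)⟩
  rcases maximal xok rulesHN top_eq defsOK maxOK hle with h1 | h1
  · exact h1 (Subgroup.mem_centralizer_singleton_iff.2 h.eq)
  · exfalso
    have ht : tHN * psiHN (hx ^ 2) = psiHN (hx ^ 2) * tHN :=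
      Subgroup.mem_centralizer_singleton_iff.1 (h1.ge (Subgroup.mem_top tHN))
    have h2 := x2_inverts
    rw [← ht, mul_inv_cancel_right] at h2
    have h3 : tHN ^ 2 = 1 := by rw [pow_two]; nth_rw 1 [h2]; exact inv_mul_cancel _
    refine t_not_mem ?_
    have h5 : tHN = tHN ^ 5 * ((tHN ^ 2) ^ 2)⁻¹ := by group
    rw [h5, h3, rulesHN.pow5]
    simp

/-- No automorphism fixing the subgroup squares `t`. -/
theorem no_square (hcube : (psiHN hz * tHN ^ 2) ^ 3 = 1) : False := by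
  -- conjugate by x
  have h1 : ((psiHN hx)⁻¹ * (psiHN hz * tHN ^ 2) * psiHN hx) ^ 3 = 1 := by
    have h := conj_pow (i := 3) (a := (psiHN hx)⁻¹) (b := psiHN hz * tHN ^ 2)
    rw [inv_inv] at h
    rw [h, hcube, mul_one, inv_mul_cancel]
  set X2 := psiHN (hx ^ 2) with hX2
  set Z := psiHN hz with hZ
  have hxz : (psiHN hx)⁻¹ * Z * psiHN hx = Z * X2 := by
    have h := relH6 (w := [4, 0, 4, 0]) (by decide +kernel)
    have h' : hz * (hx * (hz * hx)) = 1 := by simpa [wv, g6] using h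
    have e : hx⁻¹ = hz * hx * hz := (eq_inv_of_mul_eq_one_left (by rw [← h']; group)).symm
    rw [hZ, hX2, ← map_inv, ← map_mul, ← map_mul, ← map_mul, e]
    congr 1
    calc hz * hx * hz * hz * hx = hz * hx * (hz * hz) * hx := by group
      _ = hz * hx ^ 2 := by rw [hz_sq, mul_one, mul_assoc, ← sq]
  have hxt : (psiHN hx)⁻¹ * tHN ^ 2 * psiHN hx = tHN := by
    have h := conj_pow (i := 2) (a := (psiHN hx)⁻¹) (b := tHN)
    rw [inv_inv, eq_inv_of_mul_eq_one_left rulesHN.conjx, inv_pow, ← pow_mul] at h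
    rw [← h, show 2 * 2 = 4 by norm_num, GRules.pow4 rulesHN, inv_inv]
  have h2 : (Z * X2 * tHN) ^ 3 = 1 := by
    rw [show (psiHN hx)⁻¹ * (Z * tHN ^ 2) * psiHN hx =
      ((psiHN hx)⁻¹ * Z * psiHN hx) * ((psiHN hx)⁻¹ * tHN ^ 2 * psiHN hx) by group, hxz, hxt] at h1
    exact h1
  have hinv : X2 * tHN = tHN⁻¹ * X2 := mul_inv_eq_iff_eq_mul.1 x2_inverts
  have hinv' : X2 * tHN⁻¹ = tHN * X2 := by
    have h := congrArg (fun a => a⁻¹) x2_inverts
    simp only [mul_inv_rev, inv_inv] at h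
    rw [← mul_assoc] at h
    exact mul_inv_eq_iff_eq_mul.1 h
  have hzc : X2 * Z = Z * X2 := by rw [hX2, hZ, ← map_mul, hx_sq_comm_z.eq, map_mul]
  have hx4 : X2 * X2 = 1 := by rw [hX2, ← map_mul, ← pow_add, hx_pow_four, map_one]
  have h3 : (Z * tHN⁻¹ * Z * tHN * Z * tHN⁻¹) * X2 = 1 := by
    rw [← h2, pow_succ, pow_two]
    have e1 : Z * X2 * tHN = Z * tHN⁻¹ * X2 := by rw [mul_assoc, hinv, ← mul_assoc]
    have e2 : X2 * (Z * tHN⁻¹ * X2) = Z * tHN := by
      rw [← mul_assoc, ← mul_assoc, hzc, mul_assoc Z, hinv', ← mul_assoc, mul_assoc, hx4, mul_one]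
    rw [e1]
    calc Z * tHN⁻¹ * Z * tHN * Z * tHN⁻¹ * X2 = Z * tHN⁻¹ * (Z * tHN) * (Z * tHN⁻¹ * X2) := by group
      _ = Z * tHN⁻¹ * (X2 * (Z * tHN⁻¹ * X2)) * (Z * tHN⁻¹ * X2) := by rw [e2]
      _ = _ := by group
  have hztz : Z * tHN * Z = tHN⁻¹ * Z * tHN⁻¹ := by
    have hz1 : Z * Z = 1 := by rw [hZ, ← map_mul, hz_sq, map_one]
    have hzi : Z⁻¹ = Z := inv_eq_of_mul_eq_one_right hz1
    have hcu := rulesHN.cube
    rw [← hZ, pow_succ, pow_two] at hcu
    calc Z * tHN * Z = (Z * tHN * (Z * tHN) * (Z * tHN)) * (tHN⁻¹ * Z⁻¹ * tHN⁻¹) := by group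
      _ = tHN⁻¹ * Z * tHN⁻¹ := by rw [hcu, one_mul, hzi]
  have hu : (Z * (tHN ^ 2)⁻¹) * (Z * (tHN ^ 2)⁻¹) = X2 := by
    have e : Z * tHN⁻¹ * (tHN⁻¹ * Z * tHN⁻¹) * tHN⁻¹ * X2 = 1 := by
      rw [← hztz, ← h3]; group
    have := eq_inv_of_mul_eq_one_left e
    rw [inv_eq_of_mul_eq_one_right hx4] at this
    rw [← this]; group
  -- so the square of x commutes with the square of t
  have hc : X2 * (Z * (tHN ^ 2)⁻¹) = (Z * (tHN ^ 2)⁻¹) * X2 := by rw [← hu]; group
  have ht2 : X2 * (tHN ^ 2)⁻¹ * X2⁻¹ = tHN ^ 2 := by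
    have h := conj_pow (i := 2) (a := X2) (b := tHN⁻¹)
    rw [show X2 * tHN⁻¹ * X2⁻¹ = tHN by rw [hinv', mul_inv_cancel_right], inv_pow] at h
    exact h.symm
  have h4 : tHN ^ 2 = (tHN ^ 2)⁻¹ := by
    rw [← mul_assoc, hzc, mul_assoc, mul_assoc] at hc
    have := mul_left_cancel hc
    calc tHN ^ 2 = X2 * (tHN ^ 2)⁻¹ * X2⁻¹ := ht2.symm
      _ = (tHN ^ 2)⁻¹ * X2 * X2⁻¹ := by rw [this]
      _ = _ := mul_inv_cancel_right _ _
  refine t_not_mem ?_
  have h5 : tHN = tHN ^ 5 * (tHN ^ 2 * tHN ^ 2)⁻¹ := by group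
  rw [h5, rulesHN.pow5, show tHN ^ 2 * tHN ^ 2 = 1 by nth_rw 1 [h4]; exact inv_mul_cancel _]
  simp

/-- An automorphism fixing the subgroup of `x, y, z` pointwise is inner. -/
theorem inner_of_fix {φ : MulAut Spor.HN} (hφ : ∀ a, φ (psiHN a) = psiHN a) : φ ∈ Cfsg.Inn Spor.HN := by
  have hext : ∀ {ψ : MulAut Spor.HN}, (∀ a, φ (psiHN a) = ψ (psiHN a)) → φ tHN = ψ tHN → φ = ψ := by
    intro ψ h1 h2
    refine MulEquiv.ext fun g => ?_
    have hle : Subgroup.closure (Set.range psiHN ∪ {tHN}) ≤ φ.toMonoidHom.eqLocus ψ.toMonoidHom := by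
      rw [Subgroup.closure_le]
      rintro a (⟨b, rfl⟩ | ha)
      · exact h1 b
      · rw [Set.mem_singleton_iff.1 ha]; exact h2
    exact hle (top_eq.ge (Subgroup.mem_top g))
  have hsurj : φ tHN ∉ psiHN.range := fun hmem => by
    obtain ⟨a, ha⟩ := hmem
    rw [← hφ a] at ha
    exact t_not_mem ⟨a, φ.injective ha⟩
  have hcomm : ∀ a ∈ stab0, Commute (φ tHN) (psiHN a) := fun a ha => by
    have := (show Commute tHN (psiHN a) from
      fixComm xok rulesHN a ((mem_stab0.1 ha).trans rfl)).map φ.toMonoidHom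
    rwa [MulEquiv.toMonoidHom_eq_coe, MonoidHom.coe_coe, hφ] at this
  obtain ⟨m, u, hu, e⟩ :=
    (cent_stab_cases xok sizes_ok.1 sizes_ok.2.1 sizes_ok.2.2 hcomm).resolve_left hsurj
  have h5 : φ tHN ^ 5 = 1 := by rw [← map_pow, rulesHN.pow5, map_one]
  rcases cent_stab0 xok hu with rfl | rfl
  swap
  · exfalso
    have h2 : φ tHN ^ 2 = 1 := by
      have h := congrArg (· ^ m) x2_inverts
      simp only [conj_pow, inv_pow] at h
      calc φ tHN ^ 2 = tHN ^ m * (psiHN (hx ^ 2) * tHN ^ m * (psiHN (hx ^ 2))⁻¹) *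
            (psiHN (hx ^ 2) * psiHN (hx ^ 2)) := by rw [e, pow_two]; group
        _ = 1 := by rw [h, mul_inv_cancel, ← map_mul, ← pow_add, hx_pow_four, map_one, mul_one]
    refine hsurj ?_
    rw [show φ tHN = φ tHN ^ 5 * ((φ tHN ^ 2) ^ 2)⁻¹ by group, h5, h2]
    simp
  rw [map_one, mul_one] at e
  rw [← Nat.div_add_mod m 5, pow_add, pow_mul, rulesHN.pow5, one_pow, one_mul] at e
  have hcube : (psiHN hz * φ tHN) ^ 3 = 1 := by
    rw [← hφ hz, ← map_mul, ← map_pow, rulesHN.cube, map_one]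
  have hm := Nat.mod_lt m (show 5 > 0 by norm_num)
  interval_cases hr : m % 5
  · exfalso
    refine hsurj ?_
    rw [e, pow_zero]; exact one_mem _
  · rw [pow_one] at e
    have h1 : φ = 1 := hext (fun a => hφ a) e
    rw [h1]; exact one_mem _
  · exact (no_square (by rwa [e] at hcube)).elim
  · exfalso
    refine no_square ?_
    rw [e] at hcube
    have hc : Commute (psiHN (hx ^ 2)) (psiHN hz) := hx_sq_comm_z.map psiHN
    have h := conj_pow (i := 3) (a := psiHN (hx ^ 2)) (b := psiHN hz * tHN ^ 3)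
    rw [hcube, mul_one, mul_inv_cancel] at h
    have e3 : psiHN (hx ^ 2) * (psiHN hz * tHN ^ 3) * (psiHN (hx ^ 2))⁻¹ = psiHN hz * tHN ^ 2 := by
      have hp := conj_pow (i := 3) (a := psiHN (hx ^ 2)) (b := tHN)
      rw [x2_inverts] at hp
      calc psiHN (hx ^ 2) * (psiHN hz * tHN ^ 3) * (psiHN (hx ^ 2))⁻¹
          = (psiHN (hx ^ 2) * psiHN hz) * tHN ^ 3 * (psiHN (hx ^ 2))⁻¹ := by group
        _ = psiHN hz * (psiHN (hx ^ 2) * tHN ^ 3 * (psiHN (hx ^ 2))⁻¹) := by rw [hc.eq]; group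
        _ = psiHN hz * ((tHN⁻¹) ^ 3) := by rw [hp]
        _ = psiHN hz * (tHN ^ 5 * (tHN⁻¹) ^ 3) := by rw [rulesHN.pow5, one_mul]
        _ = _ := by group
    rw [e3] at h
    exact h
  · have h1 : φ = MulAut.conj (psiHN (hx ^ 2)) := hext (fun a => by
        rw [hφ, MulAut.conj_apply, ← map_inv, ← map_mul, ← map_mul,
          ← Subgroup.mem_center_iff.1 hx_sq_central a, mul_inv_cancel_right])
      (by rw [e, GRules.pow4 rulesHN]; exact x2_inverts.symm)
    rw [h1]; exact ⟨_, rfl⟩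

/-- After an inner automorphism the subgroup of `x, y, z` is preserved, and the square of `x` fixed. -/
theorem exists_fix_x2 (φ : MulAut Spor.HN) :
    ∃ g : Spor.HN, (MulAut.conj g * φ : MulAut Spor.HN) (psiHN (hx ^ 2)) = psiHN (hx ^ 2) := by
  haveI : Finite Spor.HN := finite_HN xok
  haveI : Fact (Nat.Prime 11) := ⟨by norm_num⟩
  obtain ⟨q, hqK, hq, hord, huniq⟩ := exists_eleven
  have hinj := psiHN_injective xok
  have hordP : orderOf (psiHN q) = 11 := (orderOf_injective psiHN hinj q).trans hord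
  let P : Sylow 11 Spor.HN := Sylow.ofCard (Subgroup.zpowers (psiHN q)) (by
    rw [Nat.card_zpowers, hordP, card_HN xok, show (273030912000000 : ℕ) = 11 * 24820992000000 by norm_num,
      Nat.factorization_mul (by norm_num) (by norm_num), Finsupp.add_apply,
      Nat.Prime.factorization_self (by norm_num), Nat.factorization_eq_zero_of_not_dvd (by norm_num)]
    norm_num)
  have hpg : IsPGroup 11 (Subgroup.zpowers (φ (psiHN q))) :=
    IsPGroup.of_card (n := 1) (by rw [Nat.card_zpowers, MulEquiv.orderOf_eq, hordP, pow_one])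
  obtain ⟨P', hP'⟩ := hpg.exists_le_sylow
  obtain ⟨g, hg⟩ := MulAction.exists_smul_eq Spor.HN P P'
  have hu' : φ (psiHN q) ∈ (P' : Subgroup Spor.HN) := hP' (Subgroup.mem_zpowers _)
  rw [← hg, Sylow.coe_subgroup_smul, Subgroup.mem_pointwise_smul_iff_inv_smul_mem] at hu'
  simp only [← map_inv, MulAut.smul_def, MulAut.conj_apply, inv_inv] at hu'
  have hmem : g⁻¹ * φ (psiHN q) * g ∈ Subgroup.zpowers (psiHN q) := hu'
  refine ⟨g⁻¹, ?_⟩
  set φ1 := MulAut.conj g⁻¹ * φ with hφ1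
  have h1 : φ1 (psiHN q) = g⁻¹ * φ (psiHN q) * g := by rw [hφ1]; simp [MulAut.mul_apply]
  have hgen : psiHN q ∈ Subgroup.zpowers (φ1 (psiHN q)) := by
    have hle : Subgroup.zpowers (φ1 (psiHN q)) ≤ Subgroup.zpowers (psiHN q) := by
      rw [Subgroup.zpowers_le, h1]; exact hmem
    rw [Subgroup.eq_of_le_of_card_ge hle (le_of_eq (by
      rw [Nat.card_zpowers, Nat.card_zpowers, MulEquiv.orderOf_eq]))]
    exact Subgroup.mem_zpowers _
  have hqx : Commute (psiHN (hx ^ 2)) (psiHN q) := by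
    have := Subgroup.mem_center_iff.1 hx_sq_central q
    exact (show Commute (hx ^ 2) q from this.symm).map psiHN
  have hc1 : Commute (φ1 (psiHN (hx ^ 2))) (φ1 (psiHN q)) := hqx.map φ1.toMonoidHom
  obtain ⟨j, hj⟩ := Subgroup.mem_zpowers_iff.1 hgen
  have hc : Commute (φ1 (psiHN (hx ^ 2))) (psiHN q) := hj ▸ hc1.zpow_right j
  obtain ⟨u, hu⟩ := cent_le_range xok eleven_ok hord hc
  rw [← hu]
  congr 1
  refine huniq u ?_ ?_ ?_
  · exact hinj ((map_mul psiHN u q).trans ((hu.symm ▸ hc.eq).trans (map_mul psiHN q u).symm))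
  · refine hinj ?_
    rw [map_pow, hu, ← map_pow, ← map_pow, ← pow_mul, hx_pow_four, map_one, map_one]
  · intro h
    rw [h, map_one] at hu
    exact hx_sq_ne (hinj ((φ1.injective (hu.symm.trans (map_one φ1).symm)).trans (map_one psiHN).symm))

/-- The twist as an automorphism. -/
def alpha : MulAut Spor.HN :=
  haveI := finite_HN xok
  MulEquiv.ofBijective alphaHom ⟨Finite.injective_iff_surjective.2 alpha_surjective, alpha_surjective⟩

theorem alpha_apply (g : Spor.HN) : alpha g = alphaHom g := rfl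

theorem alpha_not_inner : alpha ∉ Cfsg.Inn Spor.HN := by
  rintro ⟨g, hg⟩
  obtain ⟨e1, e2, e3⟩ := twist_gens
  have hx2 : twist (hx ^ 2) = hx ^ 2 := by rw [map_pow, e1]
  have hval : ∀ a, g * psiHN a * g⁻¹ = psiHN (twist a) := fun a => by
    rw [← alpha_psi, ← alpha_apply, ← hg]; rfl
  obtain ⟨h, rfl⟩ := (cent_x2 (g := g)).1 (by
    have := hval (hx ^ 2)
    rw [hx2] at this
    exact mul_inv_eq_iff_eq_mul.1 this)
  have hh : ∀ a, h * a * h⁻¹ = twist a := fun a => psiHN_injective xok (by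
    rw [map_mul, map_mul, map_inv]; exact hval a)
  have hc : ∀ a ∈ stab0, Commute h a := by
    intro a ha
    have hle : stab0 ≤ Subgroup.centralizer {h} := by
      rw [stab0_eq xok]
      obtain ⟨hg', h3, h90⟩ := kgens xok
      rw [grp, hg', Subgroup.closure_le]
      rintro b ⟨q, hq, rfl⟩
      rw [SetLike.mem_coe, Subgroup.mem_centralizer_singleton_iff]
      refine (mul_inv_eq_iff_eq_mul.1 ?_).symm
      rw [hh]
      rcases List.mem_pair.1 hq with rfl | rfl
      · rw [h3, el_x.2.2.1, e2]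
      · rw [h90, show el [1, 2, 0] = hx⁻¹ * hy * hx by simp [el, wv, g5, mul_assoc], map_mul, map_mul, map_inv, e1, e2]
    exact (Subgroup.mem_centralizer_singleton_iff.1 (hle ha)).symm
  have hz' := hh hz
  rw [e3] at hz'
  rcases cent_stab0 xok hc with rfl | rfl
  · rw [one_mul, inv_one, mul_one] at hz'
    exact hx_sq_ne (mul_left_cancel (hz'.symm.trans (mul_one hz).symm))
  · rw [← Subgroup.mem_center_iff.1 hx_sq_central hz, mul_inv_cancel_right] at hz'
    exact hx_sq_ne (mul_left_cancel (hz'.symm.trans (mul_one hz).symm))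

/-- Every automorphism is inner or inner after the twist. -/
theorem aut_cases (hout : Nat.card (Cfsg.Out ↥(genGroup 7 100 hsGens)) = 2) (φ : MulAut Spor.HN) :
    φ ∈ Cfsg.Inn Spor.HN ∨ φ * alpha ∈ Cfsg.Inn Spor.HN := by
  classical
  haveI : Finite H0 := Nat.finite_of_card_ne_zero (by rw [card_H0]; norm_num)
  obtain ⟨g, hg⟩ := exists_fix_x2 φ
  set φ1 := MulAut.conj g * φ with hφ1
  have hinj := psiHN_injective xok
  have hran : ∀ a, ∃ b, φ1 (psiHN a) = psiHN b := fun a => by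
    obtain ⟨b, hb⟩ := (cent_x2 (g := φ1 (psiHN a))).1 (by
      have h := ((show Commute a (hx ^ 2) from Subgroup.mem_center_iff.1 hx_sq_central a).map psiHN).map φ1.toMonoidHom
      rwa [MulEquiv.toMonoidHom_eq_coe, MonoidHom.coe_coe, hg] at h)
    exact ⟨b, hb.symm⟩
  choose f0 hf0 using hran
  let f : H0 →* H0 := MonoidHom.mk' f0 fun a b => hinj (by rw [← hf0, map_mul, map_mul, hf0, hf0, map_mul])
  have hf : ∀ a, φ1 (psiHN a) = psiHN (f a) := hf0
  have hfi : Function.Injective f := fun a b e => hinj (φ1.injective (by rw [hf, hf, e]))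
  have hfix : f (hx ^ 2) = hx ^ 2 := hinj (by rw [← hf, hg])
  obtain ⟨h, hh⟩ := exists_conj hout f hfi hfix
  -- normalise on the commutator subgroup
  let β : H0 →* H0 := (MulAut.conj h⁻¹).toMonoidHom.comp f
  have hβ : ∀ a, β a = h⁻¹ * f a * h := fun a => by
    show h⁻¹ * f a * h⁻¹⁻¹ = _
    rw [inv_inv]
  obtain ⟨hxK, hyK⟩ := gens_in_derived
  have hrep : ∀ k ∈ commutator H0, rep100 (β k) = rep100 k := fun k hk => by
    rw [hβ, map_mul, map_mul, hh k hk, ← map_mul, ← map_mul]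
    congr 1
    group
  have hβK : ∀ k ∈ commutator H0, β k = k := by
    intro k hk
    have hd : ∀ a ∈ commutator H0, a⁻¹ * β a = 1 ∨ a⁻¹ * β a = hx ^ 2 := fun a ha =>
      ker_cases (mul_mem (inv_mem ha) (map_derived β ha)) (by rw [map_mul, map_inv, hrep a ha, inv_mul_cancel])
    have hcen : ∀ a ∈ commutator H0, ∀ b, b * (a⁻¹ * β a) = a⁻¹ * β a * b := fun a ha b => by
      rcases hd a ha with e | e <;> rw [e]
      · rw [mul_one, one_mul]
      · exact Subgroup.mem_center_iff.1 hx_sq_central b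
    let χ : ↥(commutator H0) →* ↥(Subgroup.center H0) := MonoidHom.mk'
      (fun a => ⟨(a : H0)⁻¹ * β a, Subgroup.mem_center_iff.2 (hcen a a.2)⟩) fun a b => Subtype.ext (by
        show ((a : H0) * b)⁻¹ * β ((a : H0) * b) = (a : H0)⁻¹ * β a * ((b : H0)⁻¹ * β b)
        rw [map_mul, mul_inv_rev]
        calc (b : H0)⁻¹ * (a : H0)⁻¹ * (β a * β b) = (b : H0)⁻¹ * ((a : H0)⁻¹ * β a) * β b := by group
          _ = _ := by rw [hcen a a.2 (b : H0)⁻¹]; group)
    have hχ : ⁅(⊤ : Subgroup ↥(commutator H0)), (⊤ : Subgroup ↥(commutator H0))⁆ ≤ χ.ker := by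
      rw [Subgroup.commutator_le]
      intro a _ b _
      rw [MonoidHom.mem_ker, map_commutatorElement, commutatorElement_eq_one_iff_mul_comm]
      exact Subtype.ext (Subgroup.mem_center_iff.1 (χ b).2 (χ a : H0))
    have h1 := hχ ((commutator_def ↥(commutator H0)).le
      (toHS_facts.2.2.2.ge (Subgroup.mem_top (⟨k, hk⟩ : ↥(commutator H0)))))
    exact (inv_mul_eq_one.1 (congrArg Subtype.val h1)).symm
  -- the image of z
  set c := β hz * hz⁻¹ with hc
  have hcom : ∀ k ∈ commutator H0, Commute c k := by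
    intro k hk
    have hk' : hz⁻¹ * k * hz ∈ commutator H0 := by
      have := (inferInstance : (commutator H0).Normal).conj_mem k hk hz⁻¹
      rwa [inv_inv] at this
    have h1 : β hz * (hz⁻¹ * k * hz) = k * β hz := by
      conv_lhs => rw [← hβK _ hk']
      rw [← map_mul]
      conv_rhs => rw [← hβK k hk, ← map_mul]
      congr 1
      group
    show c * k = k * c
    calc c * k = β hz * (hz⁻¹ * k * hz) * hz⁻¹ := by rw [hc]; group
      _ = k * c := by rw [h1, hc, mul_assoc]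
  obtain ⟨q, hqK, hq, -, -⟩ := exists_eleven
  have hcK : c ∈ commutator H0 :=
    (cent_eleven (u := c) (by rw [← hq]; exact (hcom q hqK).map rep100)).1
  have hcs : (⟨rep100 c, index_derived.2 hcK⟩ : ↥(genGroup 7 100 hsGens)) ∈ Subgroup.center ↥(genGroup 7 100 hsGens) :=
    Subgroup.mem_center_iff.2 fun s => by
      obtain ⟨k, rfl⟩ := toHS_facts.1 s
      exact Subtype.ext ((hcom k k.2).map rep100).eq.symm
  rw [hs_centre, Subgroup.mem_bot] at hcs
  -- two possibilities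
  set φ2 := MulAut.conj (psiHN h⁻¹) * φ1 with hφ2
  have hp2 : ∀ a, φ2 (psiHN a) = psiHN (β a) := fun a => by
    show psiHN h⁻¹ * φ1 (psiHN a) * (psiHN h⁻¹)⁻¹ = _
    rw [hf, ← map_inv, ← map_mul, ← map_mul, hβ, inv_inv]
  have hgens : ∀ ψ : MulAut Spor.HN, ψ (psiHN hx) = psiHN hx → ψ (psiHN hy) = psiHN hy →
      ψ (psiHN hz) = psiHN hz → ψ ∈ Cfsg.Inn Spor.HN := fun ψ e1 e2 e3 => inner_of_fix fun a => by
    have hle : Subgroup.closure ({hx, hy, hz} : Set H0) ≤ (ψ.toMonoidHom.comp psiHN).eqLocus psiHN := by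
      rw [Subgroup.closure_le]
      rintro b (rfl | rfl | rfl)
      · exact e1
      · exact e2
      · exact e3
    exact hle (closure_top.ge (Subgroup.mem_top a))
  have hin1 : MulAut.conj g ∈ Cfsg.Inn Spor.HN := ⟨g, rfl⟩
  have hin2 : MulAut.conj (psiHN h⁻¹) ∈ Cfsg.Inn Spor.HN := ⟨_, rfl⟩
  have back : ∀ ψ, MulAut.conj (psiHN h⁻¹) * (MulAut.conj g * ψ) ∈ Cfsg.Inn Spor.HN → ψ ∈ Cfsg.Inn Spor.HN :=
    fun ψ hψ => (Subgroup.mul_mem_cancel_left _ hin1).1 ((Subgroup.mul_mem_cancel_left _ hin2).1 hψ)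
  rcases ker_cases hcK (congrArg Subtype.val hcs) with e | e
  · left
    refine back φ ?_
    refine hgens _ ?_ ?_ ?_
    · rw [show MulAut.conj (psiHN h⁻¹) * (MulAut.conj g * φ) = φ2 from rfl, hp2, hβK _ hxK]
    · rw [show MulAut.conj (psiHN h⁻¹) * (MulAut.conj g * φ) = φ2 from rfl, hp2, hβK _ hyK]
    · rw [show MulAut.conj (psiHN h⁻¹) * (MulAut.conj g * φ) = φ2 from rfl, hp2,
        show β hz = hz from mul_inv_eq_one.1 (hc ▸ e)]
  · right
    refine back (φ * alpha) ?_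
    have e' : ∀ a, (MulAut.conj (psiHN h⁻¹) * (MulAut.conj g * (φ * alpha))) (psiHN a) = psiHN (β (twist a)) :=
      fun a => by rw [← hp2, ← alpha_psi]; rfl
    obtain ⟨t1, t2, t3⟩ := twist_gens
    refine hgens _ ?_ ?_ ?_
    · rw [e', t1, hβK _ hxK]
    · rw [e', t2, hβK _ hyK]
    · rw [e', t3, map_mul, hβK _ (Subgroup.pow_mem _ hxK 2), mul_inv_eq_iff_eq_mul.1 (show β hz * hz⁻¹ = hx ^ 2 from hc ▸ e),
        hx_sq_comm_z.eq, mul_assoc, ← pow_add, hx_pow_four, mul_one]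

/-- The outer automorphism group has order two. -/
theorem card_out (hout : Nat.card (Cfsg.Out ↥(genGroup 7 100 hsGens)) = 2) :
    Nat.card (Cfsg.Out Spor.HN) = 2 := by
  show Nat.card (MulAut Spor.HN ⧸ Cfsg.Inn Spor.HN) = 2
  rw [← Subgroup.index_eq_card, Subgroup.index_eq_two_iff]
  refine ⟨alpha, fun b => ?_⟩
  by_cases hb : b ∈ Cfsg.Inn Spor.HN
  · exact Or.inr ⟨hb, fun h => alpha_not_inner ((Subgroup.mul_mem_cancel_left _ hb).1 h)⟩
  · exact Or.inl ⟨(aut_cases hout b).resolve_left hb, hb⟩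

end

end Cfsg.Agent.HNOut
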